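import Mathlib

/-!
# Subgroups of `GL₂(𝔽_p)` containing a nonsplit Cartan and an element of order `p`
-/

open Matrix

namespace CartanLib

variable {p : ℕ} [Fact p.Prime]

local notation "𝔽" => ZMod p
local notation "𝕄" => Matrix (Fin 2) (Fin 2) (ZMod p)

theorem scalar_mem (E : Subring 𝕄) (t : 𝔽) : t • (1 : 𝕄) ∈ E := by
  obtain ⟨n, rfl⟩ := ZMod.natCast_zmod_surjective t
  rw [Nat.cast_smul_eq_nsmul]
  exact E.nsmul_mem E.one_mem n

theorem det_combination (x y : 𝔽) (w : 𝕄) :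
    (x • (1 : 𝕄) + y • w).det = x ^ 2 + (w 0 0 + w 1 1) * x * y + w.det * y ^ 2 := by
  simp [det_fin_two]
  ring

theorem exists_det_eq (E : Subring 𝕄) (hE : IsField E) (hcard : Nat.card E = p ^ 2)
    (hunit : ∀ e ∈ E, e ≠ 0 → e.det ≠ 0) (d : 𝔽) (hd : d ≠ 0) : ∃ e ∈ E, e.det = d := by
  have hp : p.Prime := Fact.out
  rcases hp.eq_two_or_odd' with rfl | hodd
  · refine ⟨1, E.one_mem, ?_⟩
    rw [det_one]
    have h1 := ZMod.val_lt d
    have h2 : d.val ≠ 0 := fun h => hd ((ZMod.val_eq_zero d).1 h)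
    rw [← ZMod.natCast_zmod_val d, show d.val = 1 by omega, Nat.cast_one]
  -- a non-scalar element
  obtain ⟨w, hwE, hw⟩ : ∃ w ∈ E, ∀ t : 𝔽, w ≠ t • (1 : 𝕄) := by
    by_contra! hall
    have hle : Nat.card E ≤ Nat.card 𝔽 :=
      Nat.card_le_card_of_surjective (fun t => (⟨t • 1, scalar_mem E t⟩ : E)) fun e => by
        obtain ⟨t, ht⟩ := hall e.1 e.2
        exact ⟨t, Subtype.ext ht.symm⟩
    rw [hcard, Nat.card_zmod] at hle
    nlinarith [hp.two_le]
  set τ := w 0 0 + w 1 1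
  set n := w.det
  have hmem : ∀ x y : 𝔽, x • (1 : 𝕄) + y • w ∈ E := fun x y => by
    refine E.add_mem (scalar_mem E x) ?_
    rw [show y • w = (y • (1 : 𝕄)) * w by rw [smul_mul_assoc, one_mul]]
    exact E.mul_mem (scalar_mem E y) hwE
  have h2 : (2 : 𝔽) ≠ 0 := by
    intro h
    have : p ∣ 2 := (ZMod.natCast_eq_zero_iff 2 p).1 (by exact_mod_cast h)
    have := (Nat.prime_dvd_prime_iff_eq hp Nat.prime_two).1 this
    subst this
    exact absurd hodd (by decide)
  set m := n - (τ / 2) ^ 2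
  have hm : m ≠ 0 := fun hm0 => by
    have hne : (-(τ / 2)) • (1 : 𝕄) + (1 : 𝔽) • w ≠ 0 := fun h => hw (τ / 2) (by
      rw [one_smul, neg_smul, neg_add_eq_sub, sub_eq_zero] at h
      exact h)
    apply hunit _ (hmem _ _) hne
    rw [det_combination, ← hm0]
    simp only [m, n, τ]
    field_simp
    ring
  obtain ⟨a, b, hab⟩ := FiniteField.exists_root_sum_quadratic
    (f := (Polynomial.X ^ 2 : Polynomial 𝔽))
    (g := (Polynomial.C m * Polynomial.X ^ 2 - Polynomial.C d : Polynomial 𝔽))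
    (Polynomial.degree_X_pow 2)
    (by rw [Polynomial.degree_sub_C (by rw [Polynomial.degree_C_mul_X_pow _ hm]; norm_num),
          Polynomial.degree_C_mul_X_pow _ hm]; norm_num)
    (by rw [ZMod.card]; exact Nat.odd_iff.1 hodd)
  simp only [Polynomial.eval_pow, Polynomial.eval_X, Polynomial.eval_sub, Polynomial.eval_mul,
    Polynomial.eval_C] at hab
  refine ⟨(a - τ / 2 * b) • (1 : 𝕄) + b • w, hmem _ _, ?_⟩
  rw [det_combination]
  have : (a - τ / 2 * b) ^ 2 + τ * (a - τ / 2 * b) * b + n * b ^ 2 = a ^ 2 + m * b ^ 2 := by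
    simp only [m]
    field_simp
    ring
  linear_combination this + hab

theorem eq_top_of (H : Subgroup (GL (Fin 2) 𝔽)) (C : Subgroup (GL (Fin 2) 𝔽)) (E : Subring 𝕄)
    (hC : C ≤ H) (hE : IsField E) (hcard : Nat.card E = p ^ 2)
    (hEC : (E : Set 𝕄) = insert 0 ((fun g : GL (Fin 2) 𝔽 => (g : 𝕄)) '' (C : Set (GL (Fin 2) 𝔽))))
    (hp : p ∣ Nat.card H) : H = ⊤ := by
  classical
  have hCmem : ∀ e ∈ E, e ≠ 0 → ∃ c ∈ C, (c : 𝕄) = e := fun e he he0 => by
    have : e ∈ insert 0 ((fun g : GL (Fin 2) 𝔽 => (g : 𝕄)) '' (C : Set (GL (Fin 2) 𝔽))) := hEC ▸ he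
    rcases this with h | ⟨c, hc, rfl⟩
    · exact absurd h he0
    · exact ⟨c, hc, rfl⟩
  obtain ⟨u, hu⟩ := exists_prime_orderOf_dvd_card' (G := H) p hp
  set N : 𝕄 := ((u : GL (Fin 2) 𝔽) : 𝕄) - 1
  have hup : ((u : GL (Fin 2) 𝔽) : 𝕄) ^ p = 1 := by
    have h1 : (u : GL (Fin 2) 𝔽) ^ p = 1 := by
      rw [← Subgroup.coe_pow, orderOf_dvd_iff_pow_eq_one.1 (dvd_of_eq hu), Subgroup.coe_one]
    rw [← Units.val_pow_eq_pow_val, h1, Units.val_one]
  have hN0 : N ≠ 0 := fun h => by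
    have : (u : GL (Fin 2) 𝔽) = 1 := Units.ext (sub_eq_zero.1 h)
    have : u = 1 := Subtype.ext this
    rw [this, orderOf_one] at hu
    exact (Fact.out : p.Prime).one_lt.ne hu
  have hnil : IsNilpotent N := ⟨p, by
    rw [sub_pow_char_of_commute p (Commute.one_right _), hup, one_pow, sub_self]⟩
  have hdetN0 : N.det = 0 := by
    obtain ⟨q, hq⟩ := hnil
    have h1 : N.det ^ q = 0 := by rw [← det_pow, hq, det_zero]
    exact eq_zero_of_pow_eq_zero h1
  have htrN : N.trace = 0 := (Matrix.isNilpotent_trace_of_isNilpotent hnil).eq_zero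
  have hN2 : N * N = 0 := by
    have h2 := Matrix.aeval_self_charpoly N
    rw [Matrix.charpoly_fin_two, hdetN0, htrN] at h2
    simpa [pow_two] using h2
  have hcancel : ∀ (k : GL (Fin 2) 𝔽) (z : Fin 2 → 𝔽),
      (↑k⁻¹ : 𝕄) *ᵥ ((k : 𝕄) *ᵥ z) = z := fun k z => by
    rw [mulVec_mulVec, ← Units.val_mul, inv_mul_cancel, Units.val_one, one_mulVec]
  have hcancel' : ∀ (k : GL (Fin 2) 𝔽) (z : Fin 2 → 𝔽),
      (k : 𝕄) *ᵥ ((↑k⁻¹ : 𝕄) *ᵥ z) = z := fun k z => by
    rw [mulVec_mulVec, ← Units.val_mul, mul_inv_cancel, Units.val_one, one_mulVec]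
  -- powers of the transvection
  have hpow : ∀ n : ℕ, ((u : GL (Fin 2) 𝔽) : 𝕄) ^ n = 1 + (n : 𝔽) • N := fun n => by
    induction n with
    | zero => simp
    | succ n ih =>
      have hu1 : ((u : GL (Fin 2) 𝔽) : 𝕄) = 1 + N := by simp [N]
      rw [pow_succ, ih, hu1, add_mul, mul_add, one_mul, mul_add, smul_mul_assoc, smul_mul_assoc,
        mul_one, hN2, smul_zero, Nat.cast_add, Nat.cast_one, add_smul, one_smul]
      simp only [Matrix.one_mul]
      abel
  have htrans : ∀ t : 𝔽, ∃ h ∈ H, (h : 𝕄) = 1 + t • N := fun t => by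
    obtain ⟨n, rfl⟩ := ZMod.natCast_zmod_surjective t
    exact ⟨(u : GL (Fin 2) 𝔽) ^ n, H.pow_mem u.2 n, by rw [Units.val_pow_eq_pow_val, hpow]⟩
  -- a fixed vector
  obtain ⟨w₀, hw₀⟩ : ∃ w, N *ᵥ w ≠ 0 := by
    by_contra! h
    exact hN0 (Matrix.ext_of_mulVec_single fun i => by rw [h, zero_mulVec])
  set v := N *ᵥ w₀
  have hNv : N *ᵥ v = 0 := by rw [mulVec_mulVec, hN2, zero_mulVec]
  have hker : ∀ x, N *ᵥ x = 0 → ∃ t : 𝔽, x = t • v := by
    intro x hx
    let φ := Matrix.mulVecLin N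
    have hr : Module.finrank 𝔽 (LinearMap.ker φ) ≤ 1 := by
      have h1 := LinearMap.finrank_range_add_finrank_ker φ
      rw [Module.finrank_fin_fun] at h1
      have : 0 < Module.finrank 𝔽 (LinearMap.range φ) := by
        rw [Module.finrank_pos_iff_exists_ne_zero]
        exact ⟨⟨v, w₀, rfl⟩, fun h => hw₀ (congrArg Subtype.val h)⟩
      omega
    have hspan : Submodule.span 𝔽 {v} = LinearMap.ker φ := by
      refine Submodule.eq_of_le_of_finrank_le ?_ ?_
      · rw [Submodule.span_singleton_le_iff_mem]; exact hNv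
      · rw [finrank_span_singleton hw₀]; exact hr
    have : x ∈ Submodule.span 𝔽 {v} := hspan ▸ hx
    obtain ⟨t, ht⟩ := Submodule.mem_span_singleton.1 this
    exact ⟨t, ht.symm⟩
  -- the Cartan subgroup is transitive
  have hCtrans : ∀ x : Fin 2 → 𝔽, x ≠ 0 → ∃ c ∈ C, (c : 𝕄) *ᵥ v = x := by
    intro x hx
    let f : E → (Fin 2 → 𝔽) := fun e => (e : 𝕄) *ᵥ v
    have hinj : Function.Injective f := by
      intro a b hab
      by_contra hne
      have h0 : ((a - b : E) : 𝕄) *ᵥ v = 0 := by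
        show ((a : 𝕄) - (b : 𝕄)) *ᵥ v = 0
        rw [sub_mulVec]; exact sub_eq_zero.2 hab
      obtain ⟨c, -, hc⟩ := hCmem _ (a - b).2
        (fun h => hne (sub_eq_zero.1 (Subtype.ext h)))
      rw [← hc] at h0
      apply hw₀
      have := congrArg ((↑c⁻¹ : 𝕄) *ᵥ ·) h0
      simpa only [hcancel, mulVec_zero] using this
    have hbij := (Nat.bijective_iff_injective_and_card f).2 ⟨hinj, by
      rw [hcard, Nat.card_fun, Nat.card_zmod, Nat.card_fin]⟩
    obtain ⟨e, he⟩ := hbij.2 x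
    obtain ⟨c, hc, hce⟩ := hCmem e.1 e.2 (fun h => hx (by rw [← he]; simp [f, h]))
    exact ⟨c, hc, by rw [hce]; exact he⟩
  -- moving independent vectors
  have hmove : ∀ x y : Fin 2 → 𝔽, (∀ t : 𝔽, x ≠ t • (y - x)) → y - x ≠ 0 →
      ∃ h ∈ H, (h : 𝕄) *ᵥ x = y ∧ (h : 𝕄).det = 1 := by
    intro x y hind hne
    obtain ⟨c, hc, hcv⟩ := hCtrans _ hne
    have hx : N *ᵥ ((↑c⁻¹ : 𝕄) *ᵥ x) ≠ 0 := fun h0 => by
      obtain ⟨t, ht⟩ := hker _ h0
      apply hind t
      have := congrArg ((c : 𝕄) *ᵥ ·) ht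
      simpa only [hcancel', mulVec_smul, hcv] using this
    obtain ⟨s, hs⟩ := hker (N *ᵥ ((↑c⁻¹ : 𝕄) *ᵥ x)) (by rw [mulVec_mulVec, hN2, zero_mulVec])
    have hs0 : s ≠ 0 := fun h => hx (by rw [hs, h, zero_smul])
    obtain ⟨h, hh, hval⟩ := htrans s⁻¹
    refine ⟨c * h * c⁻¹, H.mul_mem (H.mul_mem (hC hc) hh) (H.inv_mem (hC hc)), ?_, ?_⟩
    · simp only [Units.val_mul, ← mulVec_mulVec, hval, add_mulVec, one_mulVec, smul_mulVec, hs,
        smul_smul, inv_mul_cancel₀ hs0, one_smul, mulVec_add, hcv, hcancel']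
      exact add_sub_cancel x y
    · have hdetN : h.val.det = 1 := by
        rw [hval]
        have htr : N 0 0 + N 1 1 = 0 := by
          simpa [Matrix.trace, Fin.sum_univ_two] using htrN
        have hdet : N.det = 0 := hdetN0
        have := det_combination (1 : 𝔽) s⁻¹ N
        rw [one_smul] at this
        rw [this, htr, hdet]; ring
      simp only [Units.val_mul, det_mul, hdetN, mul_one]
      rw [← det_mul, ← Units.val_mul, mul_inv_cancel, Units.val_one, det_one]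
  have hmove' : ∀ x : Fin 2 → 𝔽, x ≠ 0 → ∃ h ∈ H, (h : 𝕄) *ᵥ x = v ∧ (h : 𝕄).det = 1 := by
    intro x hx
    have hv0 : v ≠ 0 := hw₀
    by_cases hpar : ∃ s : 𝔽, x = s • v
    · obtain ⟨s, rfl⟩ := hpar
      have hs : s ≠ 0 := fun h => hx (by simp [h])
      -- a vector off the line
      have hw : ∀ a : 𝔽, w₀ ≠ a • v := fun a ha => hw₀ (by
        show N *ᵥ w₀ = 0
        rw [ha, mulVec_smul, hNv, smul_zero])
      have hcoef : ∀ a b : 𝔽, a • w₀ = b • v → a = 0 ∧ b = 0 := fun a b hab => by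
        by_cases ha : a = 0
        · subst ha
          rw [zero_smul] at hab
          exact ⟨rfl, (smul_eq_zero.1 hab.symm).resolve_right hv0⟩
        · exact absurd (by rw [mul_smul, ← hab, smul_smul, inv_mul_cancel₀ ha, one_smul]) (hw (a⁻¹ * b))
      obtain ⟨g, hg, hgx, hgd⟩ := hmove (s • v) w₀ (fun t ht => by
          obtain ⟨ht0, hb⟩ := hcoef t (s + t * s) (by
            rw [add_smul, mul_smul]; linear_combination (norm := module) -ht)
          subst ht0
          exact hs (by simpa using hb))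
        (fun h => hw s (sub_eq_zero.1 h))
      obtain ⟨g', hg', hgx', hgd'⟩ := hmove w₀ v (fun t ht => by
          obtain ⟨h1, h2⟩ := hcoef (1 + t) t (by
            rw [add_smul, one_smul]; linear_combination (norm := module) ht)
          rw [h2] at h1; simp at h1)
        (fun h => hw 1 (by rw [one_smul]; exact (sub_eq_zero.1 h).symm))
      exact ⟨g' * g, H.mul_mem hg' hg, by rw [Units.val_mul, ← mulVec_mulVec, hgx, hgx'],
        by rw [Units.val_mul, det_mul, hgd, hgd', mul_one]⟩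
    · push Not at hpar
      refine hmove x v (fun t ht => ?_) (fun h => hpar 1 (by rw [one_smul]; exact (sub_eq_zero.1 h).symm))
      have h1 : (1 + t) • x = t • v := by
        rw [add_smul, one_smul]; linear_combination (norm := module) ht
      by_cases h0 : 1 + t = 0
      · rw [h0, zero_smul] at h1
        have := (smul_eq_zero.1 h1.symm).resolve_right hv0
        rw [this] at h0; simp at h0
      · exact hpar ((1 + t)⁻¹ * t) (by rw [mul_smul, ← h1, smul_smul, inv_mul_cancel₀ h0, one_smul])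
  -- conclusion
  refine eq_top_iff.2 fun g _ => ?_
  have hgdet : (g : 𝕄).det ≠ 0 := Matrix.GeneralLinearGroup.det_ne_zero g
  have hunit : ∀ e ∈ E, e ≠ 0 → e.det ≠ 0 := fun e he he0 => by
    obtain ⟨c, -, rfl⟩ := hCmem e he he0
    exact Matrix.GeneralLinearGroup.det_ne_zero c
  obtain ⟨e, he, hed⟩ := exists_det_eq E hE hcard hunit _ hgdet
  obtain ⟨c, hc, hce⟩ := hCmem e he (fun h => hgdet (by rw [← hed, h]; exact det_zero))
  have hinj : ∀ (k : GL (Fin 2) 𝔽) (z : Fin 2 → 𝔽), z ≠ 0 → (k : 𝕄) *ᵥ z ≠ 0 := fun k z hz h => hz (by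
    have := congrArg ((↑k⁻¹ : 𝕄) *ᵥ ·) h
    simpa only [hcancel, mulVec_zero] using this)
  -- `k = g c⁻¹` has determinant one; straighten it
  set k := g * c⁻¹
  have hkd : (k : 𝕄).det = 1 := by
    have h1 : (k : 𝕄).det * (c : 𝕄).det = (g : 𝕄).det := by
      rw [← det_mul, ← Units.val_mul, inv_mul_cancel_right]
    rw [hce, hed] at h1
    exact mul_right_cancel₀ hgdet (h1.trans (one_mul _).symm)
  obtain ⟨h, hh, hhv, hhd⟩ := hmove' _ (hinj k v hw₀)
  set l := h * k
  have hlv : (l : 𝕄) *ᵥ v = v := by rw [Units.val_mul, ← mulVec_mulVec, hhv]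
  have hld : (l : 𝕄).det = 1 := by rw [Units.val_mul, det_mul, hkd, hhd, one_mul]
  -- `l` is a power of the transvection
  obtain ⟨t, ht⟩ : ∃ t : 𝔽, (l : 𝕄) = 1 + t • N := by
    set M : 𝕄 := (l : 𝕄) - 1
    have hMv : M *ᵥ v = 0 := by rw [sub_mulVec, hlv, one_mulVec, sub_self]
    have hMdet : M.det = 0 := Matrix.exists_mulVec_eq_zero_iff.1 ⟨v, hw₀, hMv⟩
    have hMtr : M.trace = 0 := by
      have e := det_combination (1 : 𝔽) 1 M
      simp only [one_smul] at e
      rw [show (1 : 𝕄) + M = (l : 𝕄) by simp [M], hld, hMdet] at e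
      rw [Matrix.trace, Fin.sum_univ_two]
      show M 0 0 + M 1 1 = 0
      linear_combination -e
    have hMM : M * M = 0 := by
      have h2 := Matrix.aeval_self_charpoly M
      rw [Matrix.charpoly_fin_two, hMdet, hMtr] at h2
      simpa [pow_two] using h2
    -- the image of `M` lies on the line of `v`
    obtain ⟨s, hs⟩ : ∃ s : 𝔽, M *ᵥ w₀ = s • v := by
      by_cases h0 : M *ᵥ w₀ = 0
      · exact ⟨0, by rw [h0, zero_smul]⟩
      let φ := Matrix.mulVecLin M
      have hr : Module.finrank 𝔽 (LinearMap.ker φ) ≤ 1 := by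
        have h1 := LinearMap.finrank_range_add_finrank_ker φ
        rw [Module.finrank_fin_fun] at h1
        have : 0 < Module.finrank 𝔽 (LinearMap.range φ) := by
          rw [Module.finrank_pos_iff_exists_ne_zero]
          exact ⟨⟨_, w₀, rfl⟩, fun h => h0 (congrArg Subtype.val h)⟩
        omega
      have hspan : Submodule.span 𝔽 {v} = LinearMap.ker φ := by
        refine Submodule.eq_of_le_of_finrank_le ?_ ?_
        · rw [Submodule.span_singleton_le_iff_mem]; exact hMv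
        · rw [finrank_span_singleton hw₀]; exact hr
      have hmem : M *ᵥ w₀ ∈ LinearMap.ker φ := by
        show M *ᵥ (M *ᵥ w₀) = 0
        rw [mulVec_mulVec, hMM, zero_mulVec]
      rw [← hspan] at hmem
      obtain ⟨s, hs⟩ := Submodule.mem_span_singleton.1 hmem
      exact ⟨s, hs.symm⟩
    refine ⟨s, eq_add_of_sub_eq' ?_⟩
    show M = s • N
    have hspan : Submodule.span 𝔽 (Set.range ![v, w₀]) = ⊤ := by
      refine LinearIndependent.span_eq_top_of_card_eq_finrank ?_ (by rw [Module.finrank_fin_fun]; rfl)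
      rw [LinearIndependent.pair_iff]
      intro a b hab
      have hb := congrArg (N *ᵥ ·) hab
      simp only [mulVec_add, mulVec_smul, hNv, smul_zero, zero_add, mulVec_zero] at hb
      have hb0 : b = 0 := (smul_eq_zero.1 hb).resolve_right hw₀
      rw [hb0, zero_smul, add_zero] at hab
      exact ⟨(smul_eq_zero.1 hab).resolve_right hw₀, hb0⟩
    apply Matrix.toLin'.injective
    refine LinearMap.ext_on hspan ?_
    rintro _ ⟨i, rfl⟩
    fin_cases i
    · simp [Matrix.toLin'_apply, smul_mulVec, hMv, hNv]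
    · simp only [Matrix.toLin'_apply]
      show M *ᵥ w₀ = (s • N) *ᵥ w₀
      rw [smul_mulVec, hs]
  obtain ⟨h', hh', hval⟩ := htrans t
  have hl : l = h' := Units.ext (ht.trans hval.symm)
  have hg : g = h⁻¹ * h' * c := by
    rw [← hl]; simp [l, k, mul_assoc]
  rw [hg]
  exact H.mul_mem (H.mul_mem (H.inv_mem hh) hh') (hC hc)

theorem exists_cartan : ∃ (C : Subgroup (GL (Fin 2) 𝔽)) (E : Subring 𝕄),
    IsField E ∧ Nat.card E = p ^ 2 ∧
      (E : Set 𝕄) = insert 0 ((fun g : GL (Fin 2) 𝔽 => (g : 𝕄)) '' (C : Set (GL (Fin 2) 𝔽))) := by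
  classical
  let L := GaloisField p 2
  have hfin : Module.finrank 𝔽 L = 2 := GaloisField.finrank p two_ne_zero
  let b : Module.Basis (Fin 2) 𝔽 L := Module.finBasisOfFinrankEq 𝔽 L hfin
  let φ : L →ₐ[𝔽] 𝕄 := Algebra.leftMulMatrix b
  have hφ : Function.Injective φ := Algebra.leftMulMatrix_injective b
  refine ⟨(Units.map (φ : L →* 𝕄)).range, φ.toRingHom.range, ?_, ?_, ?_⟩
  · exact MulEquiv.isField (Field.toIsField L)
      (RingEquiv.ofBijective φ.toRingHom.rangeRestrict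
        ⟨fun x y h => hφ (congrArg Subtype.val h), φ.toRingHom.rangeRestrict_surjective⟩).symm.toMulEquiv
  · rw [← GaloisField.card p 2 two_ne_zero]
    exact Nat.card_range_of_injective (f := (φ : L → 𝕄)) hφ
  · ext M
    constructor
    · rintro ⟨x, rfl⟩
      by_cases hx : x = 0
      · left; simp [hx]
      · right; exact ⟨_, ⟨Units.mk0 x hx, rfl⟩, rfl⟩
    · rintro (rfl | ⟨_, ⟨x, rfl⟩, rfl⟩)
      · exact ⟨0, map_zero _⟩
      · exact ⟨x, rfl⟩

theorem dvd_card_GL : p ∣ Nat.card (GL (Fin 2) 𝔽) := by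
  rw [Matrix.card_GL_field, ZMod.card, Fin.prod_univ_two]
  simp only [Fin.val_zero, Fin.val_one, pow_zero, pow_one]
  exact Dvd.dvd.mul_left ⟨p - 1, by rw [Nat.mul_sub, mul_one, pow_two]⟩ _

end CartanLib
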